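import Cfsg.Agent.Lib.Helper5.SpNd.CaseD

set_option autoImplicit false

/-!
# Involutions of `Sp_{2d}(q)`, `q` even, fixing nondegenerate `m`-spaces
-/

namespace Cfsg.Agent.Lib.Helper5.SpNd

open Module Cfsg.Agent.Lib.Helper2.SpImp Cfsg.Agent.Lib.Helper2

universe u v

section Gen

variable {F : Type u} [Field F] {V : Type v} [AddCommGroup V] [Module F V] [FiniteDimensional F V]
variable (B : LinearMap.BilinForm F V)

omit [FiniteDimensional F V] in
theorem adj_inv {x : Module.End F V} (hx : IsIsom B x) (hxx : ∀ w, x (x w) = w) (a b : V) :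
    B (x a) b = B a (x b) := by
  have := hx a (x b)
  rw [hxx] at this
  exact this

omit [FiniteDimensional F V] in
theorem nn_zero (h2 : (2 : F) = 0) {x : Module.End F V} (hx : IsIsom B x)
    (hxx : ∀ w, x (x w) = w) (a b : V) : B (x a + a) (x b + b) = 0 := by
  simp only [map_add, LinearMap.add_apply]
  rw [hx a b, adj_inv B hx hxx a b]
  linear_combination (B a b + B a (x b)) * h2

omit [FiniteDimensional F V] in
theorem inv_sup_span {x : Module.End F V} {s₁ s₂ : Fin 2 → V}
    (h1 : ∀ j, x (s₁ j) ∈ Submodule.span F (Set.range s₁) ⊔ Submodule.span F (Set.range s₂))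
    (h2 : ∀ j, x (s₂ j) ∈ Submodule.span F (Set.range s₁) ⊔ Submodule.span F (Set.range s₂)) :
    Elus.Inv x (Submodule.span F (Set.range s₁) ⊔ Submodule.span F (Set.range s₂)) := by
  have hle : Submodule.span F (Set.range s₁) ⊔ Submodule.span F (Set.range s₂) ≤
      (Submodule.span F (Set.range s₁) ⊔ Submodule.span F (Set.range s₂)).comap x := by
    refine sup_le ?_ ?_
    · rw [Submodule.span_le]
      rintro _ ⟨j, rfl⟩
      exact h1 j
    · rw [Submodule.span_le]
      rintro _ ⟨j, rfl⟩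
      exact h2 j
  exact fun w hw => hle hw

/-- the atoms in characteristic two: invariant nondegenerate subspaces of dimension 2 or 4 -/
theorem atom_char_two (hA : B.IsAlt) (h2 : (2 : F) = 0) {x : Module.End F V} (hx : IsIsom B x)
    (hsq : x ^ 2 = 1) {M : Submodule F V} (hM : ND B M) (hMi : Elus.Inv x M) (hM0 : M ≠ ⊥) :
    ∃ U : Submodule F V, U ≤ M ∧ ND B U ∧ Elus.Inv x U ∧ (finrank F U = 2 ∨ finrank F U = 4) := by
  have hxx : ∀ w, x (x w) = w := by
    intro w
    have := LinearMap.congr_fun hsq w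
    rw [pow_two, Module.End.mul_apply] at this
    rw [this]
    simp
  by_cases h1 : ∃ u ∈ M, B u (x u) ≠ 0
  · obtain ⟨u, hu, hu0⟩ := h1
    obtain ⟨U, h1, h2, h3, h4⟩ := plane_of_pair B hA hu (hMi u hu) hu0 (x := x)
      (a := 0) (b := 1) (c := 1) (e := 0) (by simp) (by rw [hxx]; simp)
    exact ⟨U, h1, h2, h3, Or.inl h4⟩
  push Not at h1
  by_cases h3 : ∀ u ∈ M, x u + u = 0
  · obtain ⟨u, v, hu, hv, huv⟩ := exists_plane B hA hM hM0
    obtain ⟨U, k1, k2, k3, k4⟩ := plane_of_pair B hA hu hv (by rw [huv]; exact one_ne_zero)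
      (x := x) (a := -1) (b := 0) (c := 0) (e := -1)
      (by rw [eq_neg_of_add_eq_zero_left (h3 u hu)]; simp)
      (by rw [eq_neg_of_add_eq_zero_left (h3 v hv)]; simp)
    exact ⟨U, k1, k2, k3, Or.inl k4⟩
  push Not at h3
  obtain ⟨u, hu, hnu⟩ := h3
  have hnuM : x u + u ∈ M := M.add_mem (hMi u hu) hu
  obtain ⟨v₀, hv₀, huv₀⟩ := (nd_iff' B hA).1 hM _ hnuM hnu
  obtain ⟨v, hv, hnuv⟩ : ∃ v ∈ M, B (x u + u) v = 1 :=
    ⟨(B (x u + u) v₀)⁻¹ • v₀, M.smul_mem _ hv₀, by
      rw [map_smul, smul_eq_mul, inv_mul_cancel₀ huv₀]⟩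
  have hnvM : x v + v ∈ M := M.add_mem (hMi v hv) hv
  have hunv : B u (x v + v) = 1 := by
    rw [← hnuv]
    simp only [map_add, LinearMap.add_apply]
    rw [adj_inv B hx hxx u v]
  -- the second plane
  have hv'M : v - B u v • (x v + v) ∈ M := M.sub_mem hv (M.smul_mem _ hnvM)
  have hnuv' : B (x u + u) (v - B u v • (x v + v)) = 1 := by
    rw [map_sub, map_smul, hnuv, nn_zero B h2 hx hxx, smul_zero, sub_zero]
  have h12 : ∀ a b, B (![u, x v + v] a) (![x u + u, v - B u v • (x v + v)] b) = 0 := by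
    intro a b
    fin_cases a <;> fin_cases b
    · show B u (x u + u) = 0
      rw [map_add, h1 u hu, hA u, add_zero]
    · show B u (v - B u v • (x v + v)) = 0
      rw [map_sub, map_smul, hunv, smul_eq_mul, mul_one, sub_self]
    · show B (x v + v) (x u + u) = 0
      exact nn_zero B h2 hx hxx v u
    · show B (x v + v) (v - B u v • (x v + v)) = 0
      rw [map_sub, map_smul, hA (x v + v), smul_zero, sub_zero, map_add, LinearMap.add_apply,
        hA v, add_zero, ← hA.neg_eq v (x v), h1 v hv, neg_zero]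
  obtain ⟨hP1, hP1f⟩ := plane_props B hA hunv
  obtain ⟨hP2, hP2f⟩ := plane_props B hA hnuv'
  have horth := SpTi.orth_span B _ _ h12
  have hd : Disjoint (Submodule.span F (Set.range ![u, x v + v]))
      (Submodule.span F (Set.range ![x u + u, v - B u v • (x v + v)])) :=
    Disjoint.mono_right ((orth_iff_le_perp B).1 horth) hP1
  have g1 : u ∈ Submodule.span F (Set.range ![u, x v + v]) ⊔
      Submodule.span F (Set.range ![x u + u, v - B u v • (x v + v)]) :=
    Submodule.mem_sup_left (Submodule.subset_span ⟨0, rfl⟩)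
  have g2 : x v + v ∈ Submodule.span F (Set.range ![u, x v + v]) ⊔
      Submodule.span F (Set.range ![x u + u, v - B u v • (x v + v)]) :=
    Submodule.mem_sup_left (Submodule.subset_span ⟨1, rfl⟩)
  have g3 : x u + u ∈ Submodule.span F (Set.range ![u, x v + v]) ⊔
      Submodule.span F (Set.range ![x u + u, v - B u v • (x v + v)]) :=
    Submodule.mem_sup_right (Submodule.subset_span ⟨0, rfl⟩)
  have g4 : v - B u v • (x v + v) ∈ Submodule.span F (Set.range ![u, x v + v]) ⊔
      Submodule.span F (Set.range ![x u + u, v - B u v • (x v + v)]) :=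
    Submodule.mem_sup_right (Submodule.subset_span ⟨1, rfl⟩)
  have g5 : v ∈ Submodule.span F (Set.range ![u, x v + v]) ⊔
      Submodule.span F (Set.range ![x u + u, v - B u v • (x v + v)]) := by
    have := Submodule.add_mem _ g4 (Submodule.smul_mem _ (B u v) g2)
    rwa [sub_add_cancel] at this
  have hxn : ∀ w, x (x w + w) = x w + w := by
    intro w
    rw [map_add, hxx, add_comm]
  refine ⟨Submodule.span F (Set.range ![u, x v + v]) ⊔
      Submodule.span F (Set.range ![x u + u, v - B u v • (x v + v)]), ?_,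
      nd_sup B hA hP1 hP2 horth, ?_, Or.inr ?_⟩
  · refine sup_le ?_ ?_
    · rw [Submodule.span_le]
      rintro _ ⟨j, rfl⟩
      fin_cases j
      · exact hu
      · exact hnvM
    · rw [Submodule.span_le]
      rintro _ ⟨j, rfl⟩
      fin_cases j
      · exact hnuM
      · exact hv'M
  · refine inv_sup_span ?_ ?_
    · intro j
      fin_cases j
      · show x u ∈ _
        have := Submodule.sub_mem _ g3 g1
        rwa [add_sub_cancel_right] at this
      · show x (x v + v) ∈ _
        rw [hxn]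
        exact g2
    · intro j
      fin_cases j
      · show x (x u + u) ∈ _
        rw [hxn]
        exact g3
      · show x (v - B u v • (x v + v)) ∈ _
        rw [map_sub, map_smul, hxn]
        have h5 : x v ∈ Submodule.span F (Set.range ![u, x v + v]) ⊔
            Submodule.span F (Set.range ![x u + u, v - B u v • (x v + v)]) := by
          have := Submodule.sub_mem _ g2 g5
          rwa [add_sub_cancel_right] at this
        exact Submodule.sub_mem _ h5 (Submodule.smul_mem _ _ g2)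
  · rw [Elus.finrank_sup_of_disjoint hd, hP1f, hP2f]

/-- adding an atom to a subspace of its orthogonal complement -/
theorem sup_atom (hA : B.IsAlt) {x : Module.End F V} {M U W' : Submodule F V} (hUM : U ≤ M)
    (hU : ND B U) (hUi : Elus.Inv x U) (hW'M : W' ≤ M ⊓ B.orthogonal U) (hW' : ND B W')
    (hW'i : Elus.Inv x W') :
    W' ⊔ U ≤ M ∧ ND B (W' ⊔ U) ∧ Elus.Inv x (W' ⊔ U) ∧
      finrank F (W' ⊔ U : Submodule F V) = finrank F W' + finrank F U := by
  have ho : Orth B U W' := (orth_iff_le_perp B).2 (hW'M.trans inf_le_right)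
  have hd : Disjoint W' U := (Disjoint.mono_right (hW'M.trans inf_le_right) hU).symm
  exact ⟨sup_le (hW'M.trans inf_le_left) hUM, nd_sup B hA hW' hU (Orth.symm hA ho),
    hW'i.sup hUi, Elus.finrank_sup_of_disjoint hd⟩

/-- involutions in characteristic two: invariant nondegenerate subspaces -/
theorem fix_char_two_aux (hA : B.IsAlt) (hB : B.Nondegenerate) (h2 : (2 : F) = 0)
    {x : Module.End F V} (hx : IsIsom B x) (hsq : x ^ 2 = 1) :
    ∀ (n : ℕ) (M : Submodule F V), finrank F M = n → ND B M → Elus.Inv x M →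
      ∀ e : ℕ, Even e → e ≤ n → (e % 4 = 0 ∨ n % 4 = 2) →
      ∃ W : Submodule F V, W ≤ M ∧ ND B W ∧ Elus.Inv x W ∧ finrank F W = e := by
  intro n
  induction n using Nat.strong_induction_on with
  | _ n ih =>
    intro M hMn hM hMi e hee hen hcond
    rcases Nat.eq_zero_or_pos e with he0 | he0
    · exact ⟨⊥, bot_le, nd_bot B, Elus.inv_bot x, by rw [finrank_bot, he0]⟩
    have hM0 : M ≠ ⊥ := by
      intro h
      rw [h, finrank_bot] at hMn
      omega
    have hne : Even n := even_of_nd B hA hB n M hMn hM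
    obtain ⟨U, hUM, hU, hUi, hUf⟩ := atom_char_two B hA h2 hx hsq hM hMi hM0
    have hM' : ND B (M ⊓ B.orthogonal U) := nd_perp_in B hA hM hU hUM
    have hM'i : Elus.Inv x (M ⊓ B.orthogonal U) :=
      inv_inf' hMi (inv_perp B hx (by norm_num) hsq hUi)
    have hM'f : finrank F (M ⊓ B.orthogonal U : Submodule F V) = n - finrank F U := by
      rw [finrank_perp_in B hA hB hM hUM, hMn]
    have hUn : finrank F U ≤ n := hMn ▸ Submodule.finrank_mono hUM
    obtain ⟨e2, he2⟩ := hee
    obtain ⟨n2, hn2⟩ := hne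
    rcases hUf with hUf | hUf
    · -- an atom of dimension two
      rw [hUf] at hM'f hUn
      by_cases hc : e % 4 = 2 ∨ n % 4 = 0
      · obtain ⟨W', hW'M, hW', hW'i, hW'f⟩ := ih (n - 2) (by omega) _ hM'f hM' hM'i (e - 2)
          ⟨e2 - 1, by omega⟩ (by omega) (by omega)
        obtain ⟨k1, k2, k3, k4⟩ := sup_atom B hA hUM hU hUi hW'M hW' hW'i
        exact ⟨W' ⊔ U, k1, k2, k3, by rw [k4, hW'f, hUf]; omega⟩
      · obtain ⟨W', hW'M, hW', hW'i, hW'f⟩ := ih (n - 2) (by omega) _ hM'f hM' hM'i e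
          ⟨e2, he2⟩ (by omega) (by omega)
        exact ⟨W', hW'M.trans inf_le_left, hW', hW'i, hW'f⟩
    · -- an atom of dimension four
      rw [hUf] at hM'f hUn
      by_cases hc : 4 ≤ e
      · obtain ⟨W', hW'M, hW', hW'i, hW'f⟩ := ih (n - 4) (by omega) _ hM'f hM' hM'i (e - 4)
          ⟨e2 - 2, by omega⟩ (by omega) (by omega)
        obtain ⟨k1, k2, k3, k4⟩ := sup_atom B hA hUM hU hUi hW'M hW' hW'i
        exact ⟨W' ⊔ U, k1, k2, k3, by rw [k4, hW'f, hUf]; omega⟩
      · obtain ⟨W', hW'M, hW', hW'i, hW'f⟩ := ih (n - 4) (by omega) _ hM'f hM' hM'i e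
          ⟨e2, he2⟩ (by omega) (by omega)
        exact ⟨W', hW'M.trans inf_le_left, hW', hW'i, hW'f⟩

/-- involutions in characteristic two fix nondegenerate subspaces of the dimensions allowed -/
theorem fix_char_two (hA : B.IsAlt) (hB : B.Nondegenerate) (h2 : (2 : F) = 0)
    {x : Module.End F V} (hx : IsIsom B x) (hsq : x ^ 2 = 1) (e : ℕ) (hee : Even e)
    (hen : e ≤ finrank F V) (hcond : e % 4 = 0 ∨ finrank F V % 4 = 2) : FixND B e x := by
  obtain ⟨W, -, hW, hWi, hWf⟩ := fix_char_two_aux B hA hB h2 hx hsq (finrank F V) ⊤ (finrank_top F V)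
    (nd_top B hA hB) (fun _ _ => Submodule.mem_top) e hee hen hcond
  exact ⟨W, hWf, (nd_iff' B hA).1 hW, Elus.inv_iff_map_le.1 hWi⟩

/-- rank-nullity for the restriction of an endomorphism to a subspace -/
theorem finrank_map_add_inf_ker (f : Module.End F V) (W : Submodule F V) :
    finrank F (W.map f) + finrank F (W ⊓ LinearMap.ker f : Submodule F V) = finrank F W := by
  have h := LinearMap.finrank_range_add_finrank_ker (f.domRestrict W)
  rw [LinearMap.range_domRestrict, LinearMap.ker_domRestrict,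
    ← SpUnip.finrank_map_subtype' ((LinearMap.ker f).comap W.subtype),
    Submodule.map_comap_subtype] at h
  exact h

/-- a free involution all of whose vectors are singular for the associated symmetric form:
invariant nondegenerate subspaces have dimension divisible by four -/
theorem four_dvd_of_free (hA : B.IsAlt) (hB : B.Nondegenerate) (h2 : (2 : F) = 0)
    {x : Module.End F V} (hx : IsIsom B x) (hsq : x ^ 2 = 1)
    (hK : ∀ w, x w = w → ∃ w', w = x w' + w') (hG : ∀ a, B a (x a) = 0)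
    {W : Submodule F V} (hW : ND B W) (hWi : Elus.Inv x W) : 4 ∣ finrank F W := by
  have hxx : ∀ w, x (x w) = w := by
    intro w
    have := LinearMap.congr_fun hsq w
    rw [pow_two, Module.End.mul_apply] at this
    rw [this]
    simp
  have hdbl : ∀ a : V, a + a = 0 := by
    intro a
    rw [← two_smul F a, h2, zero_smul]
  have hsa : ∀ a b, B ((x - 1) a) b = B a ((x - 1) b) := by
    intro a b
    simp only [LinearMap.sub_apply, Module.End.one_apply, map_sub]
    rw [adj_inv B hx hxx a b]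
  -- the image lies in the kernel
  have hIR : W.map (x - 1) ≤ W ⊓ LinearMap.ker (x - 1) := by
    rintro _ ⟨w, hw, rfl⟩
    refine Submodule.mem_inf.2 ⟨?_, ?_⟩
    · rw [LinearMap.sub_apply, Module.End.one_apply]
      exact W.sub_mem (hWi w hw) hw
    · rw [Elus.mem_ker_sub_one, LinearMap.sub_apply, Module.End.one_apply, map_sub, hxx,
        sub_eq_sub_iff_add_eq_add, hdbl, hdbl]
  have hrn := finrank_map_add_inf_ker (x - 1) W
  -- the kernel is totally isotropic
  have hRW : W ⊓ LinearMap.ker (x - 1) ≤ W := inf_le_left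
  have hRp : W ⊓ LinearMap.ker (x - 1) ≤ W ⊓ B.orthogonal (W ⊓ LinearMap.ker (x - 1)) := by
    intro a ha
    refine Submodule.mem_inf.2 ⟨ha.1, ?_⟩
    rw [mem_perp]
    intro b hb
    obtain ⟨a', rfl⟩ := hK a (Elus.mem_ker_sub_one.1 ha.2)
    obtain ⟨b', rfl⟩ := hK b (Elus.mem_ker_sub_one.1 hb.2)
    exact nn_zero B h2 hx hxx b' a'
  have h3 := Submodule.finrank_mono hRp
  rw [finrank_perp_in B hA hB hW hRW] at h3
  have h4 := Submodule.finrank_mono hIR
  -- a complement of the kernel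
  obtain ⟨Q, hQ⟩ := Submodule.exists_isCompl (W ⊓ LinearMap.ker (x - 1))
  have hsup : W ⊓ LinearMap.ker (x - 1) ⊔ Q ⊓ W = W := by
    rw [← sup_inf_assoc_of_le Q hRW, hQ.sup_eq_top, top_inf_eq]
  have hdis : Disjoint (W ⊓ LinearMap.ker (x - 1)) (Q ⊓ W) := hQ.disjoint.mono_right inf_le_left
  have h5 := Elus.finrank_sup_of_disjoint hdis
  rw [hsup] at h5
  -- the form on the complement
  have hΓA : (LinearMap.BilinForm.restrict (B.compl₂ (x - 1) : LinearMap.BilinForm F V) (Q ⊓ W)).IsAlt := by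
    intro a
    show B a.1 ((x - 1) a.1) = 0
    rw [LinearMap.sub_apply, Module.End.one_apply, map_sub, hG, hA, sub_zero]
  have hΓN : (LinearMap.BilinForm.restrict (B.compl₂ (x - 1) : LinearMap.BilinForm F V) (Q ⊓ W)).Nondegenerate := by
    refine (hΓA.isRefl.nondegenerate_iff_separatingLeft).2 ?_
    intro a ha
    by_contra ha0
    have haW : a.1 ∈ W := a.2.2
    have hNa : (x - 1) a.1 ≠ 0 := by
      intro h0
      have : a.1 ∈ (W ⊓ LinearMap.ker (x - 1)) ⊓ (Q ⊓ W) := ⟨⟨haW, h0⟩, a.2⟩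
      rw [hdis.eq_bot] at this
      exact ha0 (Subtype.ext this)
    have hNaW : (x - 1) a.1 ∈ W := (hIR ⟨a.1, haW, rfl⟩).1
    obtain ⟨b, hb, hab⟩ := (nd_iff' B hA).1 hW _ hNaW hNa
    rw [← hsup] at hb
    obtain ⟨ρ, hρ, b', hb', rfl⟩ := Submodule.mem_sup.1 hb
    apply hab
    rw [map_add, hsa a.1 ρ, hρ.2, map_zero, zero_add, hsa]
    exact ha ⟨b', hb'⟩
  have hev : Even (finrank F ↥(Q ⊓ W)) :=
    even_of_nd _ hΓA hΓN _ ⊤ (finrank_top F _) (nd_top _ hΓA hΓN)
  obtain ⟨t, ht⟩ := hev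
  exact ⟨t, by omega⟩

end Gen

section Conc

open Cfsg Matrix Cfsg.Agent.Lib.Helper5.SympBridge

variable {F : Type u} [Field F] (d : ℕ)

theorem sympForm_sum (u v : Fin d ⊕ Fin d → F) :
    sympForm d F u v =
      ∑ i : Fin d, (u (Sum.inr i) * v (Sum.inl i) - u (Sum.inl i) * v (Sum.inr i)) := by
  unfold sympForm
  simp only [dotProduct, mulVec, J, Fintype.sum_sum_type, Matrix.fromBlocks_apply₁₁,
    Matrix.fromBlocks_apply₁₂, Matrix.fromBlocks_apply₂₁, Matrix.fromBlocks_apply₂₂,
    Matrix.zero_apply, Matrix.neg_apply, Matrix.one_apply]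
  simp only [zero_mul, Finset.sum_const_zero, zero_add, add_zero, neg_mul, ite_mul, one_mul,
    Finset.sum_neg_distrib, Finset.sum_ite_eq, Finset.mem_univ, if_true, mul_neg]
  rw [Finset.sum_sub_distrib]
  ring

/-- the nilpotent part of the free involution -/
def revN : Module.End F (Fin d ⊕ Fin d → F) where
  toFun u := Sum.elim (fun i => u (Sum.inr (Fin.rev i))) (fun _ => 0)
  map_add' u v := by
    ext j
    cases j <;> simp
  map_smul' c u := by
    ext j
    cases j <;> simp

theorem revN_inl (u : Fin d ⊕ Fin d → F) (i : Fin d) :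
    revN d u (Sum.inl i) = u (Sum.inr (Fin.rev i)) := rfl

theorem revN_inr (u : Fin d ⊕ Fin d → F) (i : Fin d) : revN d u (Sum.inr i) = 0 := rfl

theorem revX_inl (u : Fin d ⊕ Fin d → F) (i : Fin d) :
    (1 + revN d) u (Sum.inl i) = u (Sum.inl i) + u (Sum.inr (Fin.rev i)) := rfl

theorem revX_inr (u : Fin d ⊕ Fin d → F) (i : Fin d) :
    (1 + revN d) u (Sum.inr i) = u (Sum.inr i) := by
  show u (Sum.inr i) + 0 = _
  rw [add_zero]

theorem revX_isIsom : IsIsom (sympBilin F d) (1 + revN d) := by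
  intro u v
  rw [sympBilin_apply, sympBilin_apply, sympForm_sum, sympForm_sum]
  simp only [revX_inl, revX_inr]
  have h1 : ∑ i : Fin d, u (Sum.inr (Fin.rev i)) * v (Sum.inr i) =
      ∑ i : Fin d, u (Sum.inr i) * v (Sum.inr (Fin.rev i)) := by
    rw [← Equiv.sum_comp Fin.revPerm (fun i => u (Sum.inr i) * v (Sum.inr (Fin.rev i)))]
    refine Finset.sum_congr rfl fun i _ => ?_
    simp
  have h2 : ∀ i : Fin d, u (Sum.inr i) * (v (Sum.inl i) + v (Sum.inr (Fin.rev i))) -
      (u (Sum.inl i) + u (Sum.inr (Fin.rev i))) * v (Sum.inr i) =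
      (u (Sum.inr i) * v (Sum.inl i) - u (Sum.inl i) * v (Sum.inr i)) +
      (u (Sum.inr i) * v (Sum.inr (Fin.rev i)) - u (Sum.inr (Fin.rev i)) * v (Sum.inr i)) := by
    intro i
    ring
  have h3 : ∑ i : Fin d, (u (Sum.inr i) * v (Sum.inr (Fin.rev i)) -
      u (Sum.inr (Fin.rev i)) * v (Sum.inr i)) = 0 := by
    rw [Finset.sum_sub_distrib, h1, sub_self]
  rw [Finset.sum_congr rfl (fun i _ => h2 i), Finset.sum_add_distrib, h3, add_zero]

theorem revX_sq (h2 : (2 : F) = 0) : (1 + revN d : Module.End F (Fin d ⊕ Fin d → F)) ^ 2 = 1 := by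
  apply LinearMap.ext
  intro u
  rw [pow_two, Module.End.mul_apply, Module.End.one_apply]
  funext j
  cases j with
  | inl i =>
    rw [revX_inl, revX_inl, revX_inr]
    linear_combination u (Sum.inr (Fin.rev i)) * h2
  | inr i => rw [revX_inr, revX_inr]

theorem revX_sing (h2 : (2 : F) = 0) (hd : Even d) (a : Fin d ⊕ Fin d → F) :
    sympBilin F d a ((1 + revN d) a) = 0 := by
  rw [sympBilin_apply, sympForm_sum]
  simp only [revX_inl, revX_inr]
  have h1 : ∀ i : Fin d, a (Sum.inr i) * (a (Sum.inl i) + a (Sum.inr (Fin.rev i))) -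
      a (Sum.inl i) * a (Sum.inr i) = a (Sum.inr i) * a (Sum.inr (Fin.rev i)) := by
    intro i
    ring
  rw [Finset.sum_congr rfl (fun i _ => h1 i)]
  refine Finset.sum_involution (fun i _ => Fin.rev i) ?_ ?_ ?_ ?_
  · intro i _
    rw [Fin.rev_rev]
    linear_combination a (Sum.inr i) * a (Sum.inr (Fin.rev i)) * h2
  · intro i _ _ h
    have := congrArg Fin.val h
    rw [Fin.val_rev] at this
    obtain ⟨t, ht⟩ := hd
    omega
  · intro i _
    exact Finset.mem_univ _
  · intro i _
    exact Fin.rev_rev i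

theorem revX_free (h2 : (2 : F) = 0) (w : Fin d ⊕ Fin d → F) (hw : (1 + revN d) w = w) :
    ∃ w', w = (1 + revN d) w' + w' := by
  have hw0 : ∀ i, w (Sum.inr i) = 0 := by
    intro i
    have := congrFun hw (Sum.inl (Fin.rev i))
    rw [revX_inl, Fin.rev_rev] at this
    exact left_eq_add.1 this.symm
  refine ⟨Sum.elim (fun _ => 0) (fun i => w (Sum.inl (Fin.rev i))), ?_⟩
  funext j
  cases j with
  | inl i =>
    rw [Pi.add_apply, revX_inl]
    simp
  | inr i =>
    rw [Pi.add_apply, revX_inr, hw0]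
    simp only [Sum.elim_inr]
    linear_combination (-w (Sum.inl (Fin.rev i))) * h2

theorem revX_not_scalar (hd : 0 < d) (z : F) :
    (1 + revN d : Module.End F (Fin d ⊕ Fin d → F)) ≠ z • 1 := by
  intro h
  have h1 := congrFun (LinearMap.congr_fun h (Pi.single (Sum.inr ⟨0, hd⟩) 1))
    (Sum.inl (Fin.rev ⟨0, hd⟩))
  rw [revX_inl, Fin.rev_rev] at h1
  simp at h1

/-- the counterexample for `2d ≡ 0`, `m ≡ 2` modulo four -/
theorem caseB_nec (h2 : (2 : F) = 0) (hd : Even d) (hd0 : 0 < d) (m : ℕ) (hm : ¬ 4 ∣ m) :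
    ∃ x : Module.End F (Fin d ⊕ Fin d → F), IsIsom (sympBilin F d) x ∧ x ^ 2 = 1 ∧
      (∀ z : F, x ≠ z • 1) ∧ ¬ FixND (sympBilin F d) m x := by
  refine ⟨1 + revN d, revX_isIsom d, revX_sq d h2, revX_not_scalar d hd0, ?_⟩
  rintro ⟨W, hWf, hWnd, hWi⟩
  apply hm
  rw [← hWf]
  exact four_dvd_of_free (sympBilin F d) (sympBilin_isAlt d) (sympBilin_nondegenerate d) h2
    (revX_isIsom d) (revX_sq d h2) (revX_free d h2) (revX_sing d h2 hd)
    ((nd_iff' _ (sympBilin_isAlt d)).2 hWnd) (Elus.inv_iff_map_le.2 hWi)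

end Conc

end Cfsg.Agent.Lib.Helper5.SpNd
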