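import Cfsg.Agent.Lib.Helper5.SpNd.CaseTwo
import Cfsg.Agent.Lib.Helper2.SpTiB

set_option autoImplicit false

/-!
# Semisimple elements of odd prime order of `Sp_{2d}(q)` fixing nondegenerate `m`-spaces
-/

namespace Cfsg.Agent.Lib.Helper5.SpNd

open Module Cfsg.Agent.Lib.Helper2.SpImp Cfsg.Agent.Lib.Helper2

universe u v

section Gen

variable {F : Type u} [Field F] {V : Type v} [AddCommGroup V] [Module F V] [FiniteDimensional F V]
variable (B : LinearMap.BilinForm F V)

omit [FiniteDimensional F V] in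
theorem restrict_isAlt (hA : B.IsAlt) (C : Submodule F V) : (B.restrict C).IsAlt :=
  fun v => hA v

omit [FiniteDimensional F V] in
theorem restrict_nondeg (hA : B.IsAlt) {C : Submodule F V} (hC : ND B C) :
    (B.restrict C).Nondegenerate :=
  LinearMap.BilinForm.nondegenerate_restrict_of_disjoint_orthogonal B hA.isRefl hC

/-- nondegeneracy of a subspace of a subspace, in terms of the restricted form -/
theorem nd_map_subtype_iff (hA : B.IsAlt) (C : Submodule F V) (W' : Submodule F ↥C) :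
    ND B (W'.map C.subtype) ↔ ND (B.restrict C) W' := by
  rw [nd_iff' B hA, nd_iff' (B.restrict C) (restrict_isAlt B hA C)]
  constructor
  · intro h u hu hu0
    obtain ⟨v, ⟨v', hv', rfl⟩, hv⟩ := h (C.subtype u) ⟨u, hu, rfl⟩
      (fun h0 => hu0 (Subtype.ext h0))
    exact ⟨v', hv', hv⟩
  · rintro h _ ⟨u, hu, rfl⟩ hu0
    obtain ⟨v, hv, huv⟩ := h u hu (fun h0 => hu0 (by rw [h0]; rfl))
    exact ⟨C.subtype v, ⟨v, hv, rfl⟩, huv⟩

/-- subspaces of `C` with a property correspond to subspaces of `↥C` -/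
theorem card_sub_eq (hA : B.IsAlt) (C : Submodule F V) (m : ℕ) :
    Nat.card {W : Submodule F V // (finrank F W = m ∧ ND B W) ∧ W ≤ C} =
      Nat.card {W' : Submodule F ↥C // finrank F W' = m ∧ ND (B.restrict C) W'} := by
  symm
  refine Nat.card_eq_of_bijective
    (fun W' => ⟨W'.1.map C.subtype, ⟨?_, ?_⟩, SpUnip.map_subtype_le W'.1⟩) ⟨?_, ?_⟩
  · rw [SpUnip.finrank_map_subtype']
    exact W'.2.1
  · exact (nd_map_subtype_iff B hA C W'.1).2 W'.2.2
  · intro W₁ W₂ h
    have h1 := congrArg Subtype.val h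
    exact Subtype.ext (Submodule.map_injective_of_injective C.injective_subtype h1)
  · rintro ⟨W, ⟨hW1, hW2⟩, hWC⟩
    have hmap : (W.comap C.subtype).map C.subtype = W := by
      rw [Submodule.map_comap_subtype]
      exact inf_eq_right.2 hWC
    refine ⟨⟨W.comap C.subtype, ?_, ?_⟩, Subtype.ext hmap⟩
    · rw [← SpUnip.finrank_map_subtype', hmap]
      exact hW1
    · rw [← nd_map_subtype_iff B hA, hmap]
      exact hW2

/-- a nondegenerate subspace of every even dimension -/
theorem exists_nd (hA : B.IsAlt) (hB : B.Nondegenerate) (k : ℕ) (hk : 2 * k ≤ finrank F V) :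
    ∃ W : Submodule F V, finrank F W = 2 * k ∧ ND B W := by
  obtain ⟨A, -, hAnd, -, hAfin⟩ := grow_planes B hA hB 1 (nd_top B hA hB)
    (by rw [sub_self, LinearMap.ker_zero]) k (by rw [finrank_top]; exact hk)
  exact ⟨A, hAfin, hAnd⟩

end Gen

section Fin

variable {F : Type u} [Field F] [Fintype F] {V : Type v} [AddCommGroup V] [Module F V]
  [FiniteDimensional F V]
variable (B : LinearMap.BilinForm F V)

omit [Fintype F] in
/-- the isometry group is transitive on nondegenerate subspaces of a given dimension -/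
theorem card_om_dvd (hA : B.IsAlt) (hB : B.Nondegenerate) (k : ℕ) (W₀ : Submodule F V)
    (hW₀ : finrank F W₀ = 2 * k ∧ ND B W₀) :
    Nat.card {W : Submodule F V // finrank F W = 2 * k ∧ ND B W} ∣ Nat.card (isoGroup B) := by
  classical
  let _ := SpTi.subAction (F := F) (V := V)
  have hset : MulAction.orbit (isoGroup B) W₀ =
      {W : Submodule F V | finrank F W = 2 * k ∧ ND B W} := by
    ext W
    constructor
    · rintro ⟨g, rfl⟩
      show finrank F (W₀.map ((g : V ≃ₗ[F] V) : V →ₗ[F] V)) = 2 * k ∧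
        ND B (W₀.map ((g : V ≃ₗ[F] V) : V →ₗ[F] V))
      refine ⟨?_, nd_map B hA g.2 hW₀.2⟩
      rw [← hW₀.1]
      exact LinearEquiv.finrank_map_eq (g : V ≃ₗ[F] V) W₀
    · intro hW
      obtain ⟨g, hg, hgW⟩ := exists_iso_of_decomp B hA hB (t := 1) (m := k)
        (fun _ => W₀) (fun _ => W) (fun _ => hW₀.2) (fun _ => hW₀.1)
        (fun j j' h => absurd (Subsingleton.elim j j') h) (fun _ => hW.2) (fun _ => hW.1)
        (fun j j' h => absurd (Subsingleton.elim j j') h)
      exact ⟨⟨g, hg⟩, hgW 0⟩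
  have h1 : Nat.card (MulAction.orbit (isoGroup B) W₀) =
      Nat.card {W : Submodule F V // finrank F W = 2 * k ∧ ND B W} :=
    Nat.card_congr (Equiv.setCongr hset)
  rw [← h1, Nat.card_congr (MulAction.orbitEquivQuotientStabilizer (isoGroup B) W₀),
    Subgroup.card_eq_card_quotient_mul_card_subgroup (MulAction.stabilizer (isoGroup B) W₀)]
  exact dvd_mul_right _ _

/-- the fixed point congruence for the action of an isometry of prime order on the nondegenerate
subspaces of a given dimension -/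
theorem card_fix_modEq (hA : B.IsAlt) {y : Module.End F V} (hyB : IsIsom B y) (r : ℕ)
    [hr : Fact r.Prime] (hy : y ^ r = 1) (m : ℕ) :
    Nat.card {W : Submodule F V // finrank F W = m ∧ ND B W} ≡
      Nat.card {W : Submodule F V // (finrank F W = m ∧ ND B W) ∧ Elus.Inv y W} [MOD r] := by
  classical
  have hr0 : 0 < r := hr.out.pos
  obtain ⟨g, hg⟩ := exists_equiv_of_pow hr0 hy
  have hgB : ∀ u v, B (g u) (g v) = B u v := by
    intro u v
    have := hyB u v
    rw [← hg] at this
    exact this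
  have : Finite (Submodule F V) := Imp.finite_submodule
  have : Fintype {W : Submodule F V // finrank F W = m ∧ ND B W} := Fintype.ofFinite _
  let φ : Function.End {W : Submodule F V // finrank F W = m ∧ ND B W} := fun W =>
    ⟨W.1.map y, by
      rw [← hg, LinearEquiv.finrank_map_eq g W.1]
      exact W.2.1, by
      rw [← hg]
      exact nd_map B hA hgB W.2.2⟩
  have hφk : ∀ (k : ℕ) (W : {W : Submodule F V // finrank F W = m ∧ ND B W}),
      ((φ ^ k) W).1 = W.1.map (y ^ k) := by
    intro k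
    induction k with
    | zero =>
      intro W
      rw [pow_zero, pow_zero]
      exact (Submodule.map_id _).symm
    | succ k ih =>
      intro W
      rw [pow_succ', pow_succ']
      show ((φ ^ k) W).1.map y = _
      rw [ih, ← Submodule.map_comp]
      rfl
  have hφr : φ ^ r ^ 1 = 1 := by
    funext W
    apply Subtype.ext
    rw [pow_one, hφk, hy]
    exact Submodule.map_id _
  have h := Equiv.Perm.card_fixedPoints_modEq (f := φ) (p := r) (n := 1) hφr
  rw [Fintype.card_eq_nat_card, Fintype.card_eq_nat_card] at h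
  have hcard : Nat.card ↑(Function.fixedPoints φ) =
      Nat.card {W : Submodule F V // (finrank F W = m ∧ ND B W) ∧ Elus.Inv y W} :=
    Nat.card_congr
      { toFun := fun W => ⟨W.1.1, W.1.2,
          Elus.inv_iff_map_le.2 (le_of_eq (congrArg Subtype.val W.2))⟩
        invFun := fun W => ⟨⟨W.1, W.2.1⟩, Subtype.ext (Imp.map_eq_of_inv hr0 hy W.2.2)⟩
        left_inv := fun W => rfl
        right_inv := fun W => rfl }
  rw [hcard] at h
  exact h

/-- invariant nondegenerate subspaces of dimension less than `c` consist of fixed vectors -/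
theorem le_ker_of_lt (hA : B.IsAlt) (hB : B.Nondegenerate) {y : Module.End F V} (hyB : IsIsom B y)
    (r : ℕ) [hr : Fact r.Prime] (hrF : (r : F) ≠ 0) (hrq : ¬ r ∣ Fintype.card F) (hy : y ^ r = 1)
    (i c : ℕ) (hi : i = orderOf ((Fintype.card F : ℕ) : ZMod r))
    (hc : c = if Even i then i else 2 * i) {W : Submodule F V} (hW : ND B W)
    (hWi : Elus.Inv y W) (hlt : finrank F W < c) : W ≤ LinearMap.ker (y - 1) := by
  obtain ⟨l, hl⟩ := sp_mod B hA hB hyB r hrF hrq hy i c hi hc hW hWi
  have hle : finrank F (W ⊓ LinearMap.ker (y - 1) : Submodule F V) ≤ finrank F W :=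
    Submodule.finrank_mono inf_le_left
  have hl0 : l = 0 := by
    rcases Nat.eq_zero_or_pos l with h0 | h0
    · exact h0
    · have h4 : c ≤ c * l := Nat.le_mul_of_pos_right c h0
      omega
  rw [hl0, Nat.mul_zero] at hl
  have heq : finrank F (W ⊓ LinearMap.ker (y - 1) : Submodule F V) = finrank F W := by omega
  have h2 : W ⊓ LinearMap.ker (y - 1) = W := Submodule.eq_of_le_of_finrank_eq inf_le_left heq
  rw [← h2]
  exact inf_le_right

/-- in dimension less than `c`, the number of nondegenerate subspaces of a given dimension is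
prime to `r` -/
theorem not_dvd_card_om {p f₀ : ℕ} [hp : Fact p.Prime] (hq : Fintype.card F = p ^ f₀)
    (hA : B.IsAlt) (hB : B.Nondegenerate) (r : ℕ) [hr : Fact r.Prime] (hr2 : r ≠ 2) (hrp : r ≠ p)
    (hrF : (r : F) ≠ 0) (hrq : ¬ r ∣ Fintype.card F) (i c : ℕ)
    (hi : i = orderOf ((Fintype.card F : ℕ) : ZMod r)) (hc : c = if Even i then i else 2 * i)
    (hlt : finrank F V < c) (k : ℕ) (W₀ : Submodule F V) (hW₀ : finrank F W₀ = 2 * k ∧ ND B W₀) :
    ¬ r ∣ Nat.card {W : Submodule F V // finrank F W = 2 * k ∧ ND B W} := by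
  intro h
  obtain ⟨y₀, hy₀B, hy₀, hy₀1⟩ := exists_order_r B r (h.trans (card_om_dvd B hA hB k W₀ hW₀))
  have := (exists_iso_elt B hq hA hB r hr2 hrp hrF hrq i c hi hc hy₀B hy₀ hy₀1 _ rfl).1
  omega

/-- sufficiency of the arithmetic condition -/
theorem caseD_suff {p f₀ : ℕ} [hp : Fact p.Prime] (hq : Fintype.card F = p ^ f₀)
    (hA : B.IsAlt) (hB : B.Nondegenerate) (r : ℕ) [hr : Fact r.Prime] (hr2 : r ≠ 2) (hrp : r ≠ p)
    (hrF : (r : F) ≠ 0) (hrq : ¬ r ∣ Fintype.card F) (i c : ℕ)
    (hi : i = orderOf ((Fintype.card F : ℕ) : ZMod r)) (hc : c = if Even i then i else 2 * i)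
    (n m : ℕ) (hn : finrank F V = n) (hme : Even m) (hmn : m ≤ n) (hmod : m % c ≤ n % c)
    {y : Module.End F V} (hyB : IsIsom B y) (hy : y ^ r = 1) : FixND B m y := by
  have hr0 : 0 < r := hr.out.pos
  have hipos : 0 < i := by
    rw [hi]
    exact Elus.ord_pos r (Fintype.card F) hrq
  have hce : Even c := by
    by_cases hev : Even i
    · rw [hc, if_pos hev]
      exact hev
    · rw [hc, if_neg hev]
      exact even_two_mul i
  have hcpos : 0 < c := by
    by_cases hev : Even i
    · rw [hc, if_pos hev]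
      exact hipos
    · rw [hc, if_neg hev]
      omega
  have hW : ND B (⊤ : Submodule F V) := nd_top B hA hB
  have hWi : Elus.Inv y (⊤ : Submodule F V) := fun x _ => Submodule.mem_top
  obtain ⟨WN, -, hWNnd, hWNi, hWNC, hWNfin, hWo, hWd⟩ :=
    moving_part B hA hB hyB hr0 hrF hy hW hWi
  have hWCnd := nd_fix B hA hyB hrF hy hW hWi
  obtain ⟨l, hl⟩ := sp_mod B hA hB hyB r hrF hrq hy i c hi hc hW hWi
  have hkle : finrank F ((⊤ : Submodule F V) ⊓ LinearMap.ker (y - 1) : Submodule F V) ≤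
      finrank F (⊤ : Submodule F V) := Submodule.finrank_mono inf_le_left
  rw [finrank_top, hn] at hl hkle hWNfin
  have hb1 : min l (m / c) ≤ l := min_le_left _ _
  have hb2 : min l (m / c) ≤ m / c := min_le_right _ _
  have hcb : c * min l (m / c) ≤ m :=
    le_trans (Nat.mul_le_mul_left c hb2) (Nat.mul_div_le m c)
  have hdm := Nat.div_add_mod m c
  have hcl : c * min l (m / c) ≤ c * l := Nat.mul_le_mul_left c hb1
  have hkmod : n % c ≤ finrank F ((⊤ : Submodule F V) ⊓ LinearMap.ker (y - 1) : Submodule F V) :=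
    mod_le_of_eq n _ c l (by omega)
  have hAk : m - c * min l (m / c) ≤
      finrank F ((⊤ : Submodule F V) ⊓ LinearMap.ker (y - 1) : Submodule F V) := by
    rcases le_total l (m / c) with h | h
    · rw [min_eq_left h]
      omega
    · rw [min_eq_right h]
      omega
  obtain ⟨A, hAW, hAnd, hAi, hAfin⟩ := grow_blocks B hq hA hB r hr2 hrp hrF hrq hyB hy i c hi hc
    hWNnd hWNi hWNC (min l (m / c)) (by omega)
  obtain ⟨a2, ha2⟩ := hme
  obtain ⟨c2, hc2⟩ := hce
  have hc2b : c * min l (m / c) = c2 * min l (m / c) + c2 * min l (m / c) := by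
    rw [hc2, Nat.add_mul]
  obtain ⟨A', hA'W, hA'nd, hA'i, hA'fin⟩ := grow_planes B hA hB y hWCnd inf_le_right
    (a2 - c2 * min l (m / c)) (by omega)
  have hA'fin' : finrank F A' = m - c * min l (m / c) := by omega
  have hd : Disjoint A' A := (hWd.mono_left hA'W).mono_right hAW
  have hoo : Orth B A' A := fun u hu v hv => hWo u (hA'W hu) v (hAW hv)
  have hDnd : ND B (A' ⊔ A) := nd_sup B hA hA'nd hAnd hoo
  have hDi : Elus.Inv y (A' ⊔ A) := hA'i.sup hAi
  have hDfin : finrank F (A' ⊔ A : Submodule F V) = m := by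
    rw [Elus.finrank_sup_of_disjoint hd, hA'fin', hAfin]
    omega
  exact ⟨A' ⊔ A, hDfin, (nd_iff' B hA).1 hDnd, Elus.inv_iff_map_le.1 hDi⟩

/-- necessity of the arithmetic condition -/
theorem caseD_nec {p f₀ : ℕ} [hp : Fact p.Prime] (hq : Fintype.card F = p ^ f₀)
    (hA : B.IsAlt) (hB : B.Nondegenerate) (r : ℕ) [hr : Fact r.Prime] (hr2 : r ≠ 2) (hrp : r ≠ p)
    (hrF : (r : F) ≠ 0) (hrq : ¬ r ∣ Fintype.card F) (i c : ℕ)
    (hi : i = orderOf ((Fintype.card F : ℕ) : ZMod r)) (hc : c = if Even i then i else 2 * i)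
    (n k : ℕ) (hn : finrank F V = n) (hkn : 2 * k ≤ n)
    (hΩ : r ∣ Nat.card {W : Submodule F V // finrank F W = 2 * k ∧ ND B W})
    (H : ∀ y : Module.End F V, IsIsom B y → y ^ r = 1 → y ≠ 1 →
      ∃ W : Submodule F V, (finrank F W = 2 * k ∧ ND B W) ∧ Elus.Inv y W) :
    c ≤ 2 * k ∧ (2 * k) % c ≤ n % c := by
  have hr0 : 0 < r := hr.out.pos
  have hipos : 0 < i := by
    rw [hi]
    exact Elus.ord_pos r (Fintype.card F) hrq
  have hcpos : 0 < c := by
    by_cases hev : Even i
    · rw [hc, if_pos hev]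
      exact hipos
    · rw [hc, if_neg hev]
      omega
  obtain ⟨W₀, hW₀⟩ := exists_nd B hA hB k (by rw [hn]; exact hkn)
  obtain ⟨y₀, hy₀B, hy₀, hy₀1⟩ := exists_order_r B r (hΩ.trans (card_om_dvd B hA hB k W₀ hW₀))
  obtain ⟨hcn, hel⟩ := exists_iso_elt B hq hA hB r hr2 hrp hrF hrq i c hi hc hy₀B hy₀ hy₀1 n hn
  obtain ⟨y, hyB, hy, hker⟩ := hel (n / c) (Nat.mul_div_le n c)
  have hdm := Nat.div_add_mod n c
  have hker' : finrank F (LinearMap.ker (y - 1)) = n % c := by omega
  have hlt : n % c < c := Nat.mod_lt n hcpos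
  have hy1 : y ≠ 1 := by
    intro h
    rw [h, sub_self, LinearMap.ker_zero, finrank_top, hn] at hker'
    omega
  obtain ⟨W, ⟨hWfin, hWnd⟩, hWi⟩ := H y hyB hy hy1
  have hmod : (2 * k) % c ≤ n % c := by
    obtain ⟨l, hl⟩ := sp_mod B hA hB hyB r hrF hrq hy i c hi hc hWnd hWi
    have hle1 : finrank F (W ⊓ LinearMap.ker (y - 1) : Submodule F V) ≤ finrank F W :=
      Submodule.finrank_mono inf_le_left
    have hle2 : finrank F (W ⊓ LinearMap.ker (y - 1) : Submodule F V) ≤
        finrank F (LinearMap.ker (y - 1)) := Submodule.finrank_mono inf_le_right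
    rw [hWfin] at hl hle1
    rw [hker'] at hle2
    exact le_trans (mod_le_of_eq (2 * k) _ c l (by omega)) hle2
  refine ⟨?_, hmod⟩
  by_contra hck
  push Not at hck
  -- all invariant members lie in the fixed space
  have hC : ND B (LinearMap.ker (y - 1)) := by
    have := nd_fix B hA hyB hrF hy (nd_top B hA hB) (fun x _ => Submodule.mem_top)
    rwa [top_inf_eq] at this
  have h1 := card_fix_modEq B hA hyB r hy (2 * k)
  have h2 : Nat.card {W : Submodule F V // (finrank F W = 2 * k ∧ ND B W) ∧ Elus.Inv y W} =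
      Nat.card {W : Submodule F V // (finrank F W = 2 * k ∧ ND B W) ∧
        W ≤ LinearMap.ker (y - 1)} :=
    Nat.card_congr (Equiv.subtypeEquivRight (fun W' =>
      ⟨fun h => ⟨h.1, le_ker_of_lt B hA hB hyB r hrF hrq hy i c hi hc h.1.2 h.2
        (by rw [h.1.1]; exact hck)⟩, fun h => ⟨h.1, Elus.inv_of_le_ker h.2⟩⟩))
  rw [h2, card_sub_eq B hA] at h1
  have h3 : r ∣ Nat.card {W' : Submodule F ↥(LinearMap.ker (y - 1)) //
      finrank F W' = 2 * k ∧ ND (B.restrict (LinearMap.ker (y - 1))) W'} :=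
    (Nat.modEq_zero_iff_dvd.1 (h1.symm.trans (Nat.modEq_zero_iff_dvd.2 hΩ)))
  -- a member of the fixed space
  have hWC : W ≤ LinearMap.ker (y - 1) :=
    le_ker_of_lt B hA hB hyB r hrF hrq hy i c hi hc hWnd hWi (by rw [hWfin]; exact hck)
  have hmap : (W.comap (LinearMap.ker (y - 1)).subtype).map (LinearMap.ker (y - 1)).subtype =
      W := by
    rw [Submodule.map_comap_subtype]
    exact inf_eq_right.2 hWC
  have hW' : finrank F (W.comap (LinearMap.ker (y - 1)).subtype) = 2 * k ∧
      ND (B.restrict (LinearMap.ker (y - 1))) (W.comap (LinearMap.ker (y - 1)).subtype) := by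
    constructor
    · rw [← SpUnip.finrank_map_subtype', hmap]
      exact hWfin
    · rw [← nd_map_subtype_iff B hA, hmap]
      exact hWnd
  exact not_dvd_card_om (B.restrict (LinearMap.ker (y - 1))) hq
    (restrict_isAlt B hA _) (restrict_nondeg B hA hC) r hr2 hrp hrF hrq i c hi hc
    (by rw [hker']; exact hlt) k _ hW' h3

/-- the case of an odd prime different from the characteristic -/
theorem caseD {p f₀ : ℕ} [hp : Fact p.Prime] (hq : Fintype.card F = p ^ f₀)
    (hA : B.IsAlt) (hB : B.Nondegenerate) (r : ℕ) [hr : Fact r.Prime] (hr2 : r ≠ 2) (hrp : r ≠ p)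
    (hrF : (r : F) ≠ 0) (hrq : ¬ r ∣ Fintype.card F) (i c : ℕ)
    (hi : i = orderOf ((Fintype.card F : ℕ) : ZMod r)) (hc : c = if Even i then i else 2 * i)
    (n m : ℕ) (hn : finrank F V = n) (hme : Even m) (hmn : m ≤ n)
    (hΩ : r ∣ Nat.card {W : Submodule F V // finrank F W = m ∧
      ∀ u ∈ W, u ≠ 0 → ∃ v ∈ W, B u v ≠ 0}) :
    (∀ y : Module.End F V, IsIsom B y → y ^ r = 1 → y ≠ 1 → FixND B m y) ↔
      (c ≤ m ∧ m % c ≤ n % c) := by
  constructor
  · intro H
    obtain ⟨k, hk⟩ := hme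
    have hk' : m = 2 * k := by omega
    subst hk'
    have hΩ' : r ∣ Nat.card {W : Submodule F V // finrank F W = 2 * k ∧ ND B W} := by
      have : Nat.card {W : Submodule F V // finrank F W = 2 * k ∧ ND B W} =
          Nat.card {W : Submodule F V // finrank F W = 2 * k ∧
            ∀ u ∈ W, u ≠ 0 → ∃ v ∈ W, B u v ≠ 0} :=
        Nat.card_congr (Equiv.subtypeEquivRight (fun W =>
          ⟨fun h => ⟨h.1, (nd_iff' B hA).1 h.2⟩, fun h => ⟨h.1, (nd_iff' B hA).2 h.2⟩⟩))
      rw [this]
      exact hΩ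
    refine caseD_nec B hq hA hB r hr2 hrp hrF hrq i c hi hc n k hn hmn hΩ' ?_
    intro y hyB hy hy1
    obtain ⟨W, hWfin, hWnd, hWi⟩ := H y hyB hy hy1
    exact ⟨W, ⟨hWfin, (nd_iff' B hA).2 hWnd⟩, Elus.inv_iff_map_le.2 hWi⟩
  · rintro ⟨-, hmod⟩ y hyB hy -
    exact caseD_suff B hq hA hB r hr2 hrp hrF hrq i c hi hc n m hn hme hmn hmod hyB hy

end Fin

end Cfsg.Agent.Lib.Helper5.SpNd
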