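import Cfsg.Agent.Lib.Helper5.SpUnip.SubType
import Cfsg.Agent.Lib.Helper2.SpImpE

set_option autoImplicit false

/-!
# Elements of order `p` of `Sp_{2d}(q)`, `q` odd, fixing nondegenerate `m`-spaces
-/

namespace Cfsg.Agent.Lib.Helper5.SpNd

open Module Matrix Cfsg.Agent.Lib.Helper5.SympBridge Cfsg.Agent.Lib.Helper5.SpUnip
  Cfsg.Agent.Lib.Helper4.JordanNil Cfsg.Agent.Lib.Helper2.SpImp

open Classical

universe u

variable {F : Type u} [Field F]

/-- some nondegenerate `m`-space is invariant -/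
def FixND {V : Type*} [AddCommGroup V] [Module F V] (B : LinearMap.BilinForm F V) (m : ℕ)
    (f : Module.End F V) : Prop :=
  ∃ W : Submodule F V, finrank F W = m ∧ (∀ u ∈ W, u ≠ 0 → ∃ v ∈ W, B u v ≠ 0) ∧ W.map f ≤ W

theorem mem_of_apply_mem {V : Type*} [AddCommGroup V] [Module F V] [FiniteDimensional F V]
    {U : Module.End F V} (hU : Function.Injective U) {W : Submodule F V}
    (hUW : ∀ w ∈ W, U w ∈ W) {x : V} (hx : U x ∈ W) : x ∈ W := by
  have hinj : Function.Injective (U.restrict hUW) := by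
    intro a b hab
    apply Subtype.ext
    apply hU
    exact congrArg Subtype.val hab
  have hsurj := LinearMap.injective_iff_surjective.1 hinj
  obtain ⟨w, hw⟩ := hsurj ⟨U x, hx⟩
  have : U w.1 = U x := congrArg Subtype.val hw
  rw [← hU this]
  exact w.2

theorem inv_cay_iff {V : Type*} [AddCommGroup V] [Module F V] [FiniteDimensional F V]
    {T : Module.End F V} (hu : IsUnit (T + 1)) (hn : IsNilpotent (cay T)) (W : Submodule F V) :
    (∀ w ∈ W, T w ∈ W) ↔ ∀ w ∈ W, cay T w ∈ W := by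
  have hrel : cay T * (T + 1) = T - 1 := cay_rel hu
  have hrel' : (1 - cay T) * T = 1 + cay T := (cayRel_iff T (cay T)).1 hrel
  constructor
  · intro h w hw
    have hUW : ∀ w ∈ W, (T + 1) w ∈ W := fun w hw => by
      rw [LinearMap.add_apply, Module.End.one_apply]
      exact W.add_mem (h w hw) hw
    have hinj := ((Module.End.isUnit_iff _).1 hu).1
    have hsurj := ((Module.End.isUnit_iff _).1 hu).2
    obtain ⟨w', hw'⟩ := hsurj w
    have hw'W : w' ∈ W := mem_of_apply_mem hinj hUW (by rw [hw']; exact hw)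
    rw [← hw', ← Module.End.mul_apply, hrel, LinearMap.sub_apply, Module.End.one_apply]
    exact W.sub_mem (h w' hw'W) hw'W
  · intro h w hw
    have hu' : IsUnit (1 - cay T) := hn.isUnit_one_sub
    have hUW : ∀ w ∈ W, (1 - cay T) w ∈ W := fun w hw => by
      rw [LinearMap.sub_apply, Module.End.one_apply]
      exact W.sub_mem hw (h w hw)
    have hinj := ((Module.End.isUnit_iff _).1 hu').1
    apply mem_of_apply_mem hinj hUW
    rw [← Module.End.mul_apply, hrel', LinearMap.add_apply, Module.End.one_apply]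
    exact W.add_mem hw (h w hw)

variable {p : ℕ} [Fact p.Prime] [CharP F p] {d : ℕ}

theorem fixND_iff_good (h2 : (2 : F) ≠ 0) {g : symplecticGroup (Fin d) F} (hg : g ^ p = 1)
    (m : ℕ) : FixND (sympBilin F d) m (tau g) ↔
      ∃ M : Submodule F (Fin d ⊕ Fin d → F), IsGood (sympBilin F d) (cayN g) M ∧
        finrank F M = m := by
  have hu := isUnit_tau_add_one h2 hg
  have hn : IsNilpotent (cay (tau g)) := ⟨p, cayN_pow h2 hg⟩
  constructor
  · rintro ⟨W, hdim, hnd, hinv⟩
    refine ⟨W, ⟨?_, ?_⟩, hdim⟩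
    · exact (inv_cay_iff hu hn W).1 (fun w hw => hinv ⟨w, hw, rfl⟩)
    · intro x hx hx'
      by_contra hx0
      obtain ⟨v, hv, hv'⟩ := hnd x hx hx0
      exact hv' (hx' v hv)
  · rintro ⟨M, hM, hdim⟩
    refine ⟨M, hdim, ?_, ?_⟩
    · intro u hu' hu0
      by_contra hcon
      push Not at hcon
      exact hu0 (hM.nd u hu' hcon)
    · rintro _ ⟨w, hw, rfl⟩
      exact (inv_cay_iff hu hn M).2 hM.inv w hw

omit [CharP F p] in
theorem exists_sp_of_isIsom {y : Module.End F (Fin d ⊕ Fin d → F)}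
    (hy : IsIsom (sympBilin F d) y) (hyp : y ^ p = 1) :
    ∃ g : symplecticGroup (Fin d) F, tau g = y ∧ g ^ p = 1 := by
  have hp0 : 0 < p := (Fact.out : p.Prime).pos
  have hu : IsUnit y := by
    have : y * y ^ (p - 1) = 1 := by rw [← pow_succ', Nat.sub_add_cancel hp0, hyp]
    exact IsUnit.of_mul_eq_one _ this
  have hbij := (Module.End.isUnit_iff _).1 hu
  obtain ⟨g, hg⟩ := exists_symplectic_of_isometry d (LinearEquiv.ofBijective y hbij)
    (fun u v => hy u v)
  have hτ : tau g = y := by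
    apply LinearMap.ext
    intro v
    rw [tau_apply, hg]
    rfl
  refine ⟨g, hτ, ?_⟩
  apply tau_injective
  rw [tau_pow, hτ, hyp, tau_one]

/-- the partition condition -/
def PartCond (p d m : ℕ) : Prop :=
  ∀ μ : Multiset ℕ, (∀ a ∈ μ, 0 < a ∧ a ≤ p) → (∀ a : ℕ, Odd a → Even (μ.count a)) →
    μ.sum = 2 * d → ∃ ν : Multiset ℕ, ν ≤ μ ∧ ν.sum = m ∧ ∀ a : ℕ, Odd a → Even (ν.count a)

theorem caseP [Fintype F] (hp : p ≠ 2) (m : ℕ) (hme : Even m) (hmd : m ≤ 2 * d) :
    (∀ y : Module.End F (Fin d ⊕ Fin d → F), IsIsom (sympBilin F d) y → y ^ p = 1 → y ≠ 1 →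
      FixND (sympBilin F d) m y) ↔ PartCond p d m := by
  have hF : ringChar F ≠ 2 := by rw [ringChar.eq F p]; exact hp
  have h2 : (2 : F) ≠ 0 := Ring.two_ne_zero hF
  constructor
  · intro H μ hμ hodd hsum
    by_cases hone : ∀ a ∈ μ, a ≤ 1
    · -- all parts are 1
      have h1 : ∀ a ∈ μ, a = 1 := fun a ha => by
        have := hone a ha
        have := (hμ a ha).1
        omega
      have hμ' : μ = Multiset.replicate (Multiset.card μ) 1 := Multiset.eq_replicate_card.2 h1
      have hcard : Multiset.card μ = 2 * d := by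
        rw [hμ', Multiset.sum_replicate, smul_eq_mul, mul_one] at hsum
        exact hsum
      refine ⟨Multiset.replicate m 1, ?_, by simp, fun a _ => ?_⟩
      · rw [hμ', hcard, Multiset.replicate_le_replicate]
        exact hmd
      · rw [Multiset.count_replicate]
        split_ifs
        · exact hme
        · exact ⟨0, rfl⟩
    · -- some part exceeds 1: realise `μ` by an element of order `p`
      set π : Nat.Partition (2 * d) := ⟨μ, fun {i} hi => (hμ i hi).1, hsum⟩ with hπ
      have hadm : Adm p (2 * d) π := ⟨fun a ha => (hμ a ha).2, hodd⟩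
      have hne : π ≠ ones (2 * d) := by
        intro heq
        exact hone ((all_le_one_iff π).2 heq)
      obtain ⟨g, hord, hrel⟩ := exists_of_tgt (F := F) hp
        (⟨⟨π, hadm, hne⟩, fun _ => true⟩ : Tgt p d)
      have hgp : g ^ p = 1 := by rw [← hord]; exact pow_orderOf_eq_one g
      have hg1 : g ≠ 1 := by
        rintro rfl
        rw [orderOf_one] at hord
        exact (Fact.out : p.Prime).one_lt.ne hord
      have hfix := H (tau g) (fun u v => tau_isometry g u v) (by rw [← tau_pow, hgp, tau_one])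
        (fun h1 => hg1 (tau_injective (h1.trans tau_one.symm)))
      obtain ⟨M, hM, hdim⟩ := (fixND_iff_good h2 hgp m).1 hfix
      obtain ⟨ν, hle, hs, hν⟩ := type_of_good h2 (cayN_isSN h2 hgp)
        (fun a ha => (hμ a ha).1) hrel.1 hM
      exact ⟨ν, hle, hs.trans hdim, hν⟩
  · intro H y hy hyp hy1
    obtain ⟨g, hτ, hgp⟩ := exists_sp_of_isIsom hy hyp
    have hg1 : g ≠ 1 := by
      rintro rfl
      exact hy1 (hτ.symm.trans tau_one)
    have hord : orderOf g = p := orderOf_eq_prime hgp hg1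
    obtain ⟨τ, hrel⟩ := exists_rel hp hord
    obtain ⟨ν, hle, hs, hν⟩ := H τ.1.1.parts
      (fun a ha => ⟨τ.1.1.parts_pos ha, τ.1.2.1.1 a ha⟩) τ.1.2.1.2 τ.1.1.parts_sum
    obtain ⟨M, hM, hdim⟩ := exists_good_of_le h2 _ _ _ _ (cayN_isSN h2 hgp) rfl τ.1.1.parts ν
      (fun a ha => τ.1.1.parts_pos ha) hrel.1 hle hν
    rw [← hτ]
    exact (fixND_iff_good h2 hgp m).2 ⟨M, hM, hdim.trans hs⟩

end Cfsg.Agent.Lib.Helper5.SpNd
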