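import Cfsg.Agent.Lib.Helper5.SpNd.CaseP

set_option autoImplicit false

/-!
# Isometries with scalar square, in odd characteristic, fix nondegenerate subspaces of every
even dimension
-/

namespace Cfsg.Agent.Lib.Helper5.SpNd

open Module Cfsg.Agent.Lib.Helper2.SpImp Cfsg.Agent.Lib.Helper2

universe u v

variable {F : Type u} [Field F] {V : Type v} [AddCommGroup V] [Module F V] [FiniteDimensional F V]
variable (B : LinearMap.BilinForm F V)

/-- an invariant nondegenerate plane spanned by `u` and `v` with `B u v ≠ 0` -/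
theorem plane_of_pair (hA : B.IsAlt) {x : Module.End F V} {N : Submodule F V} {u v : V}
    (hu : u ∈ N) (hv : v ∈ N) (huv : B u v ≠ 0) {a b c e : F} (hxu : x u = a • u + b • v)
    (hxv : x v = c • u + e • v) :
    ∃ U : Submodule F V, U ≤ N ∧ ND B U ∧ Elus.Inv x U ∧ finrank F U = 2 := by
  have h1 : B u ((B u v)⁻¹ • v) = 1 := by
    rw [map_smul, smul_eq_mul, inv_mul_cancel₀ huv]
  obtain ⟨hnd, hdim⟩ := plane_props B hA h1
  have hspan : Submodule.span F (Set.range ![u, (B u v)⁻¹ • v]) = Submodule.span F {u, v} := by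
    apply le_antisymm
    · rw [Submodule.span_le]
      rintro _ ⟨j, rfl⟩
      fin_cases j
      · exact Submodule.subset_span (by simp)
      · exact Submodule.smul_mem _ _ (Submodule.subset_span (by simp))
    · rw [Submodule.span_le]
      intro w hw
      rcases Set.mem_insert_iff.1 hw with h | h
      · rw [h]; exact Submodule.subset_span ⟨0, rfl⟩
      · rw [Set.mem_singleton_iff.1 h]
        have : (B u v) • ((B u v)⁻¹ • v) ∈
            Submodule.span F (Set.range ![u, (B u v)⁻¹ • v]) :=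
          Submodule.smul_mem _ _ (Submodule.subset_span ⟨1, rfl⟩)
        rwa [smul_smul, mul_inv_cancel₀ huv, one_smul] at this
  rw [hspan] at hnd hdim
  refine ⟨Submodule.span F {u, v}, ?_, hnd, ?_, hdim⟩
  · rw [Submodule.span_le]
    intro w hw
    rcases Set.mem_insert_iff.1 hw with h | h
    · rw [h]; exact hu
    · rw [Set.mem_singleton_iff.1 h]; exact hv
  · intro w hw
    have hle : Submodule.span F {u, v} ≤ (Submodule.span F {u, v}).comap x := by
      rw [Submodule.span_le]
      intro w hw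
      have hu' : u ∈ Submodule.span F {u, v} := Submodule.subset_span (by simp)
      have hv' : v ∈ Submodule.span F {u, v} := Submodule.subset_span (by simp)
      rcases Set.mem_insert_iff.1 hw with h | h
      · rw [h]
        simp only [SetLike.mem_coe, Submodule.mem_comap]
        rw [hxu]
        exact Submodule.add_mem _ (Submodule.smul_mem _ _ hu') (Submodule.smul_mem _ _ hv')
      · rw [Set.mem_singleton_iff.1 h]
        simp only [SetLike.mem_coe, Submodule.mem_comap]
        rw [hxv]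
        exact Submodule.add_mem _ (Submodule.smul_mem _ _ hu') (Submodule.smul_mem _ _ hv')
    exact hle hw

/-- the atom for `x² = -1` -/
theorem atom_neg (hA : B.IsAlt) (h2 : (2 : F) ≠ 0) {x : Module.End F V} (hx : IsIsom B x)
    (hsq : x ^ 2 = (-1 : F) • 1) {N : Submodule F V} (hN : ND B N) (hNi : Elus.Inv x N)
    (hN0 : N ≠ ⊥) :
    ∃ U : Submodule F V, U ≤ N ∧ ND B U ∧ Elus.Inv x U ∧ finrank F U = 2 := by
  have hxx : ∀ w, x (x w) = -w := by
    intro w
    have := LinearMap.congr_fun hsq w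
    rw [pow_two, Module.End.mul_apply] at this
    rw [this]
    simp
  have hsym : ∀ a b, B a (x b) = B b (x a) := by
    intro a b
    have := hx a (x b)
    rw [hxx] at this
    rw [← this, map_neg, hA.neg_eq]
  obtain ⟨u, hu, hu0⟩ : ∃ u ∈ N, B u (x u) ≠ 0 := by
    by_contra hcon
    push Not at hcon
    obtain ⟨w, hw, hw0⟩ := Submodule.exists_mem_ne_zero_of_ne_bot hN0
    obtain ⟨v, hv, hwv⟩ := (nd_iff' B hA).1 hN w hw hw0
    apply hwv
    -- v = x (-(x v))
    have hv' : v = x (-(x v)) := by rw [map_neg, hxx, neg_neg]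
    have hxv : -(x v) ∈ N := N.neg_mem (hNi v hv)
    set t := -(x v) with ht
    have h1 := hcon (w + t) (N.add_mem hw hxv)
    simp only [map_add, LinearMap.add_apply] at h1
    rw [hcon w hw, hcon t hxv, hsym t w] at h1
    have h3 : 2 * B w (x t) = 0 := by linear_combination h1
    rw [hv']
    rcases mul_eq_zero.1 h3 with h4 | h4
    · exact absurd h4 h2
    · exact h4
  refine plane_of_pair B hA hu (hNi u hu) hu0 (a := 0) (b := 1) (c := -1) (e := 0) ?_ ?_
  · simp
  · rw [hxx]; simp

/-- the atom for `x² = 1` -/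
theorem atom_pos (hA : B.IsAlt) (h2 : (2 : F) ≠ 0) {x : Module.End F V} (hx : IsIsom B x)
    (hsq : x ^ 2 = 1) {N : Submodule F V} (hN : ND B N) (hNi : Elus.Inv x N)
    (hN0 : N ≠ ⊥) :
    ∃ U : Submodule F V, U ≤ N ∧ ND B U ∧ Elus.Inv x U ∧ finrank F U = 2 := by
  have hxx : ∀ w, x (x w) = w := by
    intro w
    have := LinearMap.congr_fun hsq w
    rw [pow_two, Module.End.mul_apply] at this
    rw [this]
    simp
  -- an eigenvector
  obtain ⟨u, ε, hu, hu0, hε, hxu⟩ : ∃ (u : V) (ε : F), u ∈ N ∧ u ≠ 0 ∧ ε * ε = 1 ∧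
      x u = ε • u := by
    obtain ⟨w, hw, hw0⟩ := Submodule.exists_mem_ne_zero_of_ne_bot hN0
    by_cases h1 : x w + w = 0
    · refine ⟨w, -1, hw, hw0, by ring, ?_⟩
      rw [neg_smul, one_smul]
      exact eq_neg_of_add_eq_zero_left h1
    · refine ⟨x w + w, 1, N.add_mem (hNi w hw) hw, h1, by ring, ?_⟩
      rw [map_add, hxx, one_smul, add_comm]
  obtain ⟨v', hv', huv'⟩ := (nd_iff' B hA).1 hN u hu hu0
  have hε0 : ε ≠ 0 := by
    rintro rfl
    simp at hε
  have hv : x v' + ε • v' ∈ N := N.add_mem (hNi v' hv') (N.smul_mem _ hv')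
  have hxv : x (x v' + ε • v') = ε • (x v' + ε • v') := by
    rw [map_add, hxx, map_smul, smul_add, smul_smul, hε, one_smul, add_comm]
  have huv : B u (x v' + ε • v') ≠ 0 := by
    have e1 : B u (x v') = ε * B u v' := by
      have := hx u (x v')
      rw [hxx, hxu, map_smul, LinearMap.smul_apply, smul_eq_mul] at this
      exact this.symm
    rw [map_add, map_smul, smul_eq_mul, e1]
    have : ε * B u v' + ε * B u v' = 2 * ε * B u v' := by ring
    rw [this]
    exact mul_ne_zero (mul_ne_zero h2 hε0) huv'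
  refine plane_of_pair B hA hu hv huv (a := ε) (b := 0) (c := 0) (e := ε) ?_ ?_
  · rw [hxu]; simp
  · rw [hxv]; simp

/-- isometries with square `±1` fix nondegenerate subspaces of every even dimension -/
theorem fix_of_sq (hA : B.IsAlt) (hB : B.Nondegenerate) (h2 : (2 : F) ≠ 0) {x : Module.End F V}
    (hx : IsIsom B x) {z : F} (hz : z * z = 1) (hsq : x ^ 2 = z • 1) (k : ℕ)
    (hk : 2 * k ≤ finrank F V) : FixND B (2 * k) x := by
  have h4 : x ^ 4 = 1 := by
    have : x ^ 4 = x ^ 2 * x ^ 2 := by rw [← pow_add]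
    rw [this, hsq, smul_mul_smul_comm, hz, one_smul, one_mul]
  have hz' : z = 1 ∨ z = -1 := by
    have : (z - 1) * (z + 1) = 0 := by linear_combination hz
    rcases mul_eq_zero.1 this with h | h
    · left; exact sub_eq_zero.1 h
    · right; exact eq_neg_of_add_eq_zero_left h
  obtain ⟨A, -, hAnd, hAi, hAdim⟩ := grow_gen B hA hB x
    (fun N => ND B N ∧ Elus.Inv x N) 2 (fun N hN => hN.1)
    (fun N hN hN0 => by
      rcases hz' with rfl | rfl
      · rw [one_smul] at hsq
        exact atom_pos B hA h2 hx hsq hN.1 hN.2 hN0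
      · exact atom_neg B hA h2 hx hsq hN.1 hN.2 hN0)
    (fun N A hN hAN hAnd hAi =>
      ⟨nd_perp_in B hA hN.1 hAnd hAN, inv_inf' hN.2 (inv_perp B hx (by norm_num) h4 hAi)⟩)
    k ⊤ ⟨nd_top B hA hB, fun _ _ => trivial⟩ (by rw [finrank_top]; exact hk)
  exact ⟨A, hAdim, (nd_iff' B hA).1 hAnd, Elus.inv_iff_map_le.1 hAi⟩

end Cfsg.Agent.Lib.Helper5.SpNd
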