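import Cfsg.Agent.Lib.Helper5.SpNd.CaseB

set_option autoImplicit false

/-!
# `PSp_{2d}(q)` on nondegenerate `m`-spaces: the prime order elements fixing a point
-/

namespace Cfsg.Agent.Lib.Helper5.SpNd

open Module Cfsg.Agent.Lib.Helper2.SpImp Cfsg.Agent.Lib.Helper2
  Cfsg.Agent.Lib.Helper5.SympBridge

universe u

variable {F : Type u} [Field F]

theorem fixND_of_smul {V : Type*} [AddCommGroup V] [Module F V] (B : LinearMap.BilinForm F V)
    (m : ℕ) (f : Module.End F V) (z : F) (hz : z ≠ 0) (h : FixND B m (z • f)) : FixND B m f := by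
  obtain ⟨W, h1, h2, h3⟩ := h
  refine ⟨W, h1, h2, ?_⟩
  rw [← Submodule.map_smul f W z hz]
  exact h3

theorem sp_nd_main [Fintype F] {p : ℕ} [Fact p.Prime] [CharP F p] {q : ℕ}
    (hq : Fintype.card F = q) (d m : ℕ) (hd : 2 ≤ d) (hme : Even m) (hmd : m < d)
    (r : ℕ) [Fact r.Prime]
    (hrΩ : r ∣ Nat.card {W : Submodule F (Fin d ⊕ Fin d → F) // finrank F W = m ∧
      ∀ u ∈ W, u ≠ 0 → ∃ v ∈ W, sympBilin F d u v ≠ 0})
    (i c : ℕ) (hi : i = orderOf (q : ZMod r)) (hc : c = if Even i then i else 2 * i) :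
    (∀ f : Module.End F (Fin d ⊕ Fin d → F), IsIsom (sympBilin F d) f →
      (∃ z : F, f ^ r = z • 1) → (∀ z : F, f ≠ z • 1) → FixND (sympBilin F d) m f) ↔
    ((r = p ∧ 2 < p ∧ PartCond p d m) ∨
     (r = p ∧ p = 2 ∧ ((2 * d) % 4 = 2 ∨ m % 4 = 0)) ∨
     (r = 2 ∧ p ≠ 2) ∨
     (r ≠ p ∧ 2 < r ∧ c ≤ m ∧ m % c ≤ (2 * d) % c)) := by
  classical
  subst hq
  have hr : r.Prime := Fact.out
  have hp : p.Prime := Fact.out
  have hfinV : finrank F (Fin d ⊕ Fin d → F) = 2 * d := by
    rw [Module.finrank_fintype_fun_eq_card, Fintype.card_sum, Fintype.card_fin]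
    omega
  have hA : (sympBilin F d).IsAlt := sympBilin_isAlt d
  have hB : (sympBilin F d).Nondegenerate := sympBilin_nondegenerate d
  have : Nonempty (Fin d ⊕ Fin d) := ⟨Sum.inl ⟨0, by omega⟩⟩
  have : Nontrivial (Fin d ⊕ Fin d → F) := inferInstance
  by_cases hrp : r = p
  · subst hrp
    by_cases hr2 : r = 2
    · -- the involutions in characteristic two
      subst hr2
      have h2 : (2 : F) = 0 := by
        have := CharP.cast_eq_zero F 2
        exact_mod_cast this
      have hR : ((2 = 2 ∧ 2 < 2 ∧ PartCond 2 d m) ∨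
          (2 = 2 ∧ 2 = 2 ∧ ((2 * d) % 4 = 2 ∨ m % 4 = 0)) ∨ (2 = 2 ∧ 2 ≠ 2) ∨
          (2 ≠ 2 ∧ 2 < 2 ∧ c ≤ m ∧ m % c ≤ (2 * d) % c)) ↔
          ((2 * d) % 4 = 2 ∨ m % 4 = 0) := by
        constructor
        · rintro (⟨-, h, -⟩ | ⟨-, -, h⟩ | ⟨-, h⟩ | ⟨h, -⟩)
          · omega
          · exact h
          · exact absurd rfl h
          · exact absurd rfl h
        · intro h
          exact Or.inr (Or.inl ⟨rfl, rfl, h⟩)
      rw [hR]
      constructor
      · intro H
        by_contra hcon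
        push Not at hcon
        obtain ⟨m2, hm2⟩ := hme
        have hde : Even d := ⟨d / 2, by omega⟩
        obtain ⟨x, hx1, hx2, hx3, hx4⟩ := caseB_nec (F := F) d h2 hde (by omega) m (by omega)
        exact hx4 (H x hx1 ⟨1, by rw [hx2, one_smul]⟩ hx3)
      · intro hcond f hf ⟨z, hz⟩ _
        have hzz : z * z = 1 := scalar_sq (sympBilin F d) hB z (hz ▸ hf.pow 2)
        have hz1 : z = 1 := by
          have h3 : (z - 1) * (z - 1) = 0 := by linear_combination hzz - z * h2 + h2
          have := mul_self_eq_zero.1 h3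
          exact sub_eq_zero.1 this
        rw [hz1, one_smul] at hz
        refine fix_char_two (sympBilin F d) hA hB h2 hf hz m hme (by omega) ?_
        rw [hfinV]
        rcases hcond with h | h
        · exact Or.inr h
        · exact Or.inl h
    · -- unipotent elements in odd characteristic
      have h3 : 2 < r := lt_of_le_of_ne hr.two_le (Ne.symm hr2)
      have hR : ((r = r ∧ 2 < r ∧ PartCond r d m) ∨
          (r = r ∧ r = 2 ∧ ((2 * d) % 4 = 2 ∨ m % 4 = 0)) ∨ (r = 2 ∧ r ≠ 2) ∨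
          (r ≠ r ∧ 2 < r ∧ c ≤ m ∧ m % c ≤ (2 * d) % c)) ↔ PartCond r d m := by
        constructor
        · rintro (⟨-, -, h⟩ | ⟨-, h, -⟩ | ⟨h, -⟩ | ⟨h, -⟩)
          · exact h
          · exact absurd h hr2
          · exact absurd h hr2
          · exact absurd rfl h
        · intro h
          exact Or.inl ⟨rfl, h3, h⟩
      rw [hR, sp_scalar_reduce (sympBilin F d) hB r hr2 (FixND (sympBilin F d) m)
        (fixND_of_smul (sympBilin F d) m)]
      exact caseP hr2 m hme (by omega)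
  · by_cases hr2 : r = 2
    · -- involutions in odd characteristic
      subst hr2
      have hp2 : p ≠ 2 := fun h => hrp h.symm
      have hF : ringChar F ≠ 2 := by rw [ringChar.eq F p]; exact hp2
      have h2 : (2 : F) ≠ 0 := Ring.two_ne_zero hF
      constructor
      · intro _
        exact Or.inr (Or.inr (Or.inl ⟨rfl, hp2⟩))
      · intro _ f hf ⟨z, hz⟩ _
        have hzz : z * z = 1 := scalar_sq (sympBilin F d) hB z (hz ▸ hf.pow 2)
        obtain ⟨m2, hm2⟩ := hme
        have hm2' : m = 2 * m2 := by omega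
        rw [hm2']
        exact fix_of_sq (sympBilin F d) hA hB h2 hf hzz hz m2 (by rw [hfinV]; omega)
    · -- semisimple elements of odd prime order
      have h3 : 2 < r := lt_of_le_of_ne hr.two_le (Ne.symm hr2)
      have hrq : ¬ r ∣ Fintype.card F := Elus.not_dvd_card_of_ne (F := F) r hrp
      have hrF : (r : F) ≠ 0 := by
        intro h
        have h1 := (CharP.cast_eq_zero_iff F p r).mp h
        exact hrp ((Nat.prime_dvd_prime_iff_eq hp hr).mp h1).symm
      obtain ⟨k, -, hk⟩ := FiniteField.card F p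
      have hR : ((r = p ∧ 2 < p ∧ PartCond p d m) ∨
          (r = p ∧ p = 2 ∧ ((2 * d) % 4 = 2 ∨ m % 4 = 0)) ∨ (r = 2 ∧ p ≠ 2) ∨
          (r ≠ p ∧ 2 < r ∧ c ≤ m ∧ m % c ≤ (2 * d) % c)) ↔
          (c ≤ m ∧ m % c ≤ (2 * d) % c) := by
        constructor
        · rintro (⟨h, -⟩ | ⟨h, -⟩ | ⟨h, -⟩ | ⟨-, -, h⟩)
          · exact absurd h hrp
          · exact absurd h hrp
          · exact absurd h hr2
          · exact h
        · intro h
          exact Or.inr (Or.inr (Or.inr ⟨hrp, h3, h⟩))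
      rw [hR, sp_scalar_reduce (sympBilin F d) hB r hr2 (FixND (sympBilin F d) m)
        (fixND_of_smul (sympBilin F d) m)]
      exact caseD (sympBilin F d) hk hA hB r hr2 hrp hrF hrq i c hi hc (2 * d) m hfinV hme
        (by omega) hrΩ

end Cfsg.Agent.Lib.Helper5.SpNd
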